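import Mathlib
import Cfsg.Agent.H942.S62.Tab

/-!
# Subgroups of `Sp₆(2)`: data
-/

set_option autoImplicit false
set_option maxRecDepth 100000

namespace Cfsg.Agent.H942.S62

/-- the forest -/
def fo : FD where
  Bw := [[3,24,27],[1,7,49,55],[1,16,17],[1,3,5,7],[4],[36],[1,32,33],[1,3,33,35],[2],[48],[6],[1,2,3],[1,4,5],[6,7]]
  Rw := [[],[1],[1,2,3],[2,3],[2,32,33],[4,6,34,35],[2,4,1,52,53],[4,1,54,55],[6,18,19],[2,6,50,51],[4,36,38,22],[4,6,36,50],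
    [4,6,38,16],[4,32,34,54]]
  Fo := [[1,2,4,8,16,32],[9,2,4,8,16,32],[17,10,4,8,16,32],[25,10,4,8,16,32],[13,18,4,8,16,40],[29,50,20,8,16,40],
    [39,26,36,8,24,40],[55,10,36,8,24,40],[27,50,60,8,24,32],[31,34,52,8,24,40],[1,4,22,8,34,2],[1,22,48,8,6,4],
    [1,48,32,8,18,22],[1,32,2,8,38,48],[1,18,4,8,16,32],[33,2,12,8,16,32],[17,26,4,8,16,32],[41,2,12,8,16,32],
    [21,26,4,8,16,40],[29,26,4,8,16,40],[45,18,12,8,16,40],[9,22,4,8,16,48],[11,2,36,8,24,32],[41,18,12,8,16,32],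
    [45,58,28,8,16,40],[13,58,20,8,16,40],[61,50,28,8,16,40],[41,30,12,8,16,48],[43,34,52,8,24,32],[57,22,12,8,16,48],
    [55,18,36,8,24,40],[7,26,44,8,24,40],[51,42,52,8,24,32],[23,18,44,8,24,40],[23,10,44,8,24,40],[35,58,52,8,24,32],
    [7,2,44,8,24,40],[39,2,36,8,24,40],[55,18,12,8,24,40],[43,58,52,8,24,32],[31,10,44,8,24,40],[59,50,52,8,24,32],
    [11,58,60,8,24,32],[45,58,52,8,16,40],[55,34,60,8,24,40],[39,42,60,8,24,40],[27,18,36,8,24,32],[47,42,60,8,24,40],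
    [15,42,52,8,24,40],[63,34,60,8,24,40],[47,50,20,8,24,40],[25,26,4,8,16,32],[1,2,36,8,16,32],[49,10,12,8,16,32],
    [1,34,20,8,16,32],[5,2,4,8,16,40],[9,18,4,8,16,32],[33,2,44,8,16,32],[57,10,12,8,16,32],[1,50,20,8,16,32],
    [13,2,4,8,16,40],[5,18,4,8,16,40],[53,26,12,8,16,40],[25,14,4,8,16,48],[35,2,44,8,24,32],[49,26,12,8,16,32],
    [61,26,12,8,16,40],[25,30,4,8,16,48],[43,2,44,8,24,32],[57,26,12,8,16,32],[9,54,20,8,16,48],[27,10,36,8,24,32],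
    [21,30,4,8,16,56],[9,50,20,8,16,32],[15,50,52,8,24,40],[25,10,36,8,16,32],[27,42,60,8,24,32],[45,30,12,8,16,56],
    [11,34,60,8,24,32],[59,42,52,8,24,32],[61,22,12,8,16,56],[63,18,36,8,24,40],[35,34,52,8,24,32],[3,34,60,8,24,32],
    [19,42,60,8,24,32],[53,50,28,8,16,40],[19,50,60,8,24,32],[39,26,12,8,24,40],[3,58,60,8,24,32],[51,50,52,8,24,32],
    [21,50,60,8,16,40],[7,26,4,8,24,40],[23,18,4,8,24,40],[35,26,12,8,24,32],[63,10,36,8,24,40],[29,50,60,8,16,40],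
    [47,2,36,8,24,40],[15,2,44,8,24,40],[47,26,12,8,24,40],[61,50,52,8,16,40],[13,58,60,8,16,40],[61,10,36,8,16,40],
    [57,54,44,8,16,48],[35,26,44,8,24,32],[7,42,52,8,24,40],[23,34,52,8,24,40],[55,58,20,8,24,40],[51,18,44,8,24,32],
    [23,58,28,8,24,40],[11,26,36,8,24,32],[59,18,44,8,24,32],[45,18,36,8,16,40],[31,58,28,8,24,40],[15,50,28,8,24,40],
    [43,26,44,8,24,32],[63,58,20,8,24,40],[59,50,20,8,24,32],[47,22,12,8,24,48],[41,2,44,8,16,32],[1,50,52,8,16,32],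
    [17,42,20,8,16,32],[21,10,4,8,16,40],[33,34,28,8,16,32],[1,6,4,8,16,48],[37,2,12,8,16,40],[3,2,4,8,24,32],
    [9,2,36,8,16,32],[49,58,60,8,16,32],[1,34,52,8,16,32],[17,58,20,8,16,32],[29,10,4,8,16,40],[57,58,28,8,16,32],
    [1,22,4,8,16,48],[45,2,12,8,16,40],[11,2,4,8,24,32],[37,18,12,8,16,40],[9,6,4,8,16,48],[3,2,36,8,24,32],
    [33,18,12,8,16,32],[51,10,44,8,24,32],[29,14,4,8,16,56],[25,42,20,8,16,32],[55,58,60,8,24,40],[49,10,44,8,16,32],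
    [25,62,20,8,16,48],[59,10,44,8,24,32],[5,22,4,8,16,56],[25,58,20,8,16,32],[63,58,60,8,24,40],[57,10,44,8,16,32],
    [53,62,28,8,16,56],[31,58,52,8,24,40],[49,58,28,8,16,32],[9,34,52,8,16,32],[47,50,60,8,24,40],[25,58,52,8,16,32],
    [17,26,36,8,16,32],[31,18,44,8,24,40],[15,26,44,8,24,40],[47,26,36,8,24,40],[21,50,20,8,16,40],[5,58,20,8,16,40],
    [37,58,28,8,16,40],[41,46,28,8,16,48],[53,22,12,8,16,56],[37,58,52,8,16,40],[51,18,12,8,24,32],[5,58,60,8,16,40],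
    [53,50,52,8,16,40],[21,10,44,8,16,40],[41,14,60,8,16,48],[3,26,4,8,24,32],[19,18,4,8,24,32],[63,18,12,8,24,40],
    [29,10,44,8,16,40],[41,30,60,8,16,48],[31,18,4,8,24,40],[15,26,4,8,24,40],[59,18,12,8,24,32],[45,2,36,8,16,40],
    [41,62,44,8,16,48],[13,2,44,8,16,40],[57,22,60,8,16,48],[17,62,36,8,16,48],[13,62,44,8,16,56],[3,26,36,8,24,32],
    [21,26,44,8,16,40],[7,50,28,8,24,40],[19,18,36,8,24,32],[39,50,20,8,24,40],[35,58,20,8,24,32],[55,30,12,8,24,48],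
    [53,26,36,8,16,40],[19,50,28,8,24,32],[51,30,12,8,24,56],[13,18,44,8,16,40],[61,26,36,8,16,40],[61,34,52,8,16,40],
    [9,54,36,8,16,48],[27,50,28,8,24,32],[59,30,12,8,24,56],[11,58,28,8,24,32],[43,22,12,8,24,56],[29,26,44,8,16,40],
    [43,58,20,8,24,32],[63,30,12,8,24,48],[31,22,4,8,24,48],[15,54,28,8,24,48],[57,58,60,8,16,32],[49,42,28,8,16,32],
    [17,14,4,8,16,48],[53,10,12,8,16,40],[35,2,12,8,24,32],[5,6,4,8,16,56],[19,10,4,8,24,32],[7,2,4,8,24,40],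
    [9,50,52,8,16,32],[1,18,36,8,16,32],[57,42,60,8,16,32],[33,34,60,8,16,32],[41,50,28,8,16,32],[17,30,4,8,16,48],
    [61,10,12,8,16,40],[43,2,12,8,24,32],[29,30,4,8,16,56],[27,10,4,8,24,32],[15,2,4,8,24,40],[19,10,36,8,24,32],
    [13,6,4,8,16,56],[9,34,20,8,16,32],[7,50,52,8,24,40],[17,10,36,8,16,32],[39,50,60,8,24,40],[57,42,28,8,16,32],
    [41,34,28,8,16,32],[23,58,52,8,24,40],[33,50,60,8,16,32],[17,42,52,8,16,32],[37,54,28,8,16,56],[33,50,28,8,16,32],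
    [41,34,60,8,16,32],[41,50,60,8,16,32],[17,58,52,8,16,32],[49,42,60,8,16,32],[9,18,36,8,16,32],[33,18,44,8,16,32],
    [57,26,44,8,16,32],[41,14,12,8,16,48],[49,22,12,8,16,48],[57,6,12,8,16,48],[33,30,12,8,16,48],[57,38,28,8,16,48],
    [37,30,12,8,16,56],[5,46,20,8,16,56],[13,46,20,8,16,56],[21,54,20,8,16,56],[53,10,36,8,16,40],[57,38,44,8,16,48],
    [5,2,44,8,16,40],[57,6,60,8,16,48],[37,2,36,8,16,40],[41,46,44,8,16,48],[17,14,52,8,16,48],[37,14,52,8,16,56],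
    [43,26,12,8,24,32],[17,30,52,8,16,48],[61,22,52,8,16,56],[27,18,4,8,24,32],[11,26,4,8,24,32],[1,54,36,8,16,48],
    [29,54,44,8,16,56],[1,22,52,8,16,48],[45,30,52,8,16,56],[45,54,36,8,16,56],[13,22,60,8,16,56],[5,18,44,8,16,40],
    [21,34,60,8,16,40],[25,14,52,8,16,48],[3,58,28,8,24,32],[35,22,12,8,24,56],[37,18,36,8,16,40],[51,50,20,8,24,32],
    [39,22,12,8,24,48],[7,30,4,8,24,48],[23,62,28,8,24,48],[37,42,52,8,16,40],[25,46,36,8,16,48],[19,22,4,8,24,56],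
    [51,62,20,8,24,56],[13,42,60,8,16,40],[9,22,52,8,16,48],[45,42,52,8,16,40],[25,62,36,8,16,48],[29,34,60,8,16,40],
    [33,62,44,8,16,48],[53,62,36,8,16,56],[27,22,4,8,24,56],[59,62,20,8,24,56],[11,30,4,8,24,56],[43,54,20,8,24,56],
    [25,30,52,8,16,48],[15,30,4,8,24,48],[31,62,28,8,24,48],[63,54,20,8,24,48],[11,62,28,8,24,56],[21,14,4,8,16,56],
    [51,10,12,8,24,32],[55,10,12,8,24,40],[23,10,4,8,24,40],[39,2,12,8,24,40],[41,18,44,8,16,32],[25,26,36,8,16,32],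
    [25,42,52,8,16,32],[49,26,44,8,16,32],[13,22,4,8,16,56],[59,10,12,8,24,32],[63,10,12,8,24,40],[31,10,4,8,24,40],
    [47,2,12,8,24,40],[37,14,12,8,16,56],[13,42,20,8,16,40],[49,54,28,8,16,48],[53,6,12,8,16,56],[29,34,20,8,16,40],
    [33,62,28,8,16,48],[21,38,20,8,16,56],[29,38,20,8,16,56],[5,62,20,8,16,56],[33,46,28,8,16,48],[45,14,12,8,16,56],
    [17,46,36,8,16,48],[21,38,44,8,16,56],[1,6,52,8,16,48],[53,6,52,8,16,56],[1,38,36,8,16,48],[5,46,44,8,16,56],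
    [21,14,60,8,16,56],[53,46,36,8,16,56],[61,62,36,8,16,56],[29,30,60,8,16,56],[5,42,60,8,16,40],[9,6,52,8,16,48],
    [53,34,52,8,16,40],[33,14,60,8,16,48],[29,14,60,8,16,56],[3,30,4,8,24,56],[35,54,20,8,24,56],[9,38,36,8,16,48],
    [23,22,4,8,24,48],[7,54,28,8,24,48],[39,62,20,8,24,48],[19,54,28,8,24,56],[49,38,44,8,16,48],[61,46,36,8,16,56],
    [49,22,60,8,16,48],[21,30,60,8,16,56],[49,54,44,8,16,48],[37,54,36,8,16,56],[33,30,60,8,16,48],[21,54,44,8,16,56],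
    [37,30,52,8,16,56],[27,54,28,8,24,56],[47,62,20,8,24,48],[5,22,60,8,16,56],[37,42,28,8,16,40],[45,42,28,8,16,40],
    [11,34,28,8,24,32],[53,34,28,8,16,40],[61,34,28,8,16,40],[43,34,20,8,24,32],[49,38,28,8,16,48],[61,6,12,8,16,56],
    [33,14,12,8,16,48],[5,6,60,8,16,56],[37,38,36,8,16,56],[49,6,60,8,16,48],[13,6,60,8,16,56],[33,46,44,8,16,48],
    [45,14,52,8,16,56],[29,38,44,8,16,56],[3,62,28,8,24,56],[55,54,20,8,24,48],[45,38,36,8,16,56],[5,62,44,8,16,56],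
    [53,22,52,8,16,56],[5,42,20,8,16,40],[19,42,28,8,24,32],[27,42,28,8,24,32],[15,42,28,8,24,40],[11,6,4,8,24,56],
    [21,34,20,8,16,40],[51,42,20,8,24,32],[59,42,20,8,24,32],[63,34,20,8,24,40],[15,6,4,8,24,48],[49,6,12,8,16,48],
    [61,6,52,8,16,56],[13,46,44,8,16,56],[3,34,28,8,24,32],[23,34,28,8,24,40],[19,14,4,8,24,56],[31,34,28,8,24,40],
    [27,14,4,8,24,56],[39,42,20,8,24,40],[47,42,20,8,24,40],[43,14,12,8,24,56],[11,38,28,8,24,56],[35,34,20,8,24,32],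
    [23,14,4,8,24,48],[31,14,4,8,24,48],[63,6,12,8,24,48],[47,38,20,8,24,48],[7,42,28,8,24,40],[3,6,4,8,24,56],
    [55,34,20,8,24,40],[51,6,12,8,24,56],[19,46,28,8,24,56],[59,6,12,8,24,56],[27,46,28,8,24,56],[39,14,12,8,24,48],
    [47,14,12,8,24,48],[43,46,20,8,24,56],[15,46,28,8,24,48],[7,6,4,8,24,48],[55,46,20,8,24,48],[63,46,20,8,24,48],
    [31,38,28,8,24,48],[59,38,20,8,24,56],[35,14,12,8,24,56],[3,38,28,8,24,56],[55,6,12,8,24,48],[51,38,20,8,24,56],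
    [23,38,28,8,24,48],[7,46,28,8,24,48],[35,46,20,8,24,56],[39,38,20,8,24,48],[5,44,18,8,40,16],[19,36,18,8,32,24],
    [53,36,26,8,40,16],[35,44,26,8,32,24],[31,28,4,8,14,62],[27,50,18,8,54,14],[9,20,4,8,6,54],[13,58,18,8,62,6],
    [39,20,12,8,14,62],[43,58,26,8,54,14],[49,28,12,8,6,54],[61,50,26,8,62,6],[7,4,30,8,42,2],[59,12,30,8,42,10],
    [19,4,22,8,42,10],[35,12,22,8,34,2],[17,4,30,8,42,10],[29,30,56,8,14,4],[31,22,48,8,14,4],[61,22,56,8,6,12],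
    [45,30,56,8,14,12],[59,30,56,8,6,12],[59,56,32,8,18,30],[11,56,32,8,26,30],[45,56,40,8,18,30],[63,48,40,8,18,30],
    [61,56,40,8,26,22],[35,32,2,8,46,56],[63,40,10,8,46,48],[7,40,2,8,46,48],[17,32,10,8,46,48],[39,40,2,8,38,48],
    [61,12,22,8,34,10],[29,4,30,8,34,10],[45,12,30,8,42,2],[31,4,22,8,34,10],[41,12,30,8,34,2],[57,12,22,8,42,10],
    [11,4,30,8,34,2],[11,30,56,8,6,4],[41,30,48,8,14,12],[57,22,48,8,6,12],[39,22,48,8,14,12],[35,22,56,8,14,12],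
    [17,30,48,8,14,4],[7,30,48,8,6,4],[57,48,32,8,26,22],[31,48,40,8,18,22],[13,56,40,8,18,22],[7,48,40,8,26,30],
    [39,48,40,8,26,22],[19,56,32,8,18,22],[17,48,32,8,26,30],[29,40,10,8,38,56],[45,40,2,8,38,56],[59,32,10,8,38,56],
    [13,40,2,8,46,56],[57,32,10,8,38,48],[31,40,10,8,38,48],[41,32,2,8,46,48],[39,12,22,8,42,2],[63,12,30,8,34,10],
    [13,4,22,8,42,2],[63,30,48,8,6,12],[13,22,56,8,6,4],[19,22,56,8,14,4],[29,56,40,8,26,30],[41,48,32,8,18,30],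
    [35,56,32,8,26,22],[19,32,10,8,46,56],[61,40,10,8,46,56],[11,32,2,8,38,56]]
  par := [(0,1),(1,2),(0,3),(1,3),(2,4),(3,4),(4,4),(0,4),(1,4),(5,4),(2,5),(6,5),(4,5),(0,5),(1,5),(5,5),(2,6),(6,6),(7,6),
    (3,6),(6,7),(7,7),(3,7),(8,7),(1,7),(2,8),(7,8),(3,8),(8,8),(1,8),(2,9),(6,9),(7,9),(3,9),(8,9),(4,9),(1,9),(2,14),
    (1,14),(7,15),(0,15),(5,15),(2,16),(1,16),(7,17),(0,17),(5,17),(3,18),(4,18),(0,18),(1,18),(5,18),(4,19),(0,19),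
    (1,19),(5,19),(0,20),(1,20),(2,21),(5,21),(7,22),(1,23),(1,24),(5,24),(1,25),(1,26),(5,26),(7,28),(7,30),(7,31),
    (2,32),(1,32),(7,34),(1,34),(3,35),(8,35),(1,35),(1,36),(1,37),(7,38),(7,39),(1,39),(3,40),(8,40),(1,40),(1,41),
    (1,42),(7,43),(0,43),(7,44),(3,44),(4,44),(1,44),(7,45),(1,45),(2,46),(3,46),(1,46),(1,47),(1,48),(7,49),(1,49),
    (7,50),(5,50),(1,51),(7,52),(0,53),(5,53),(2,54),(5,54),(4,55),(1,55),(1,56),(7,57),(0,57),(0,58),(5,58),(2,59),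
    (5,59),(4,60),(1,60),(4,61),(0,61),(1,61),(5,61),(1,62),(2,63),(5,63),(7,64),(1,65),(0,66),(1,66),(2,67),(5,67),
    (7,68),(1,69),(2,70),(7,71),(5,72),(1,73),(4,74),(7,75),(0,75),(7,76),(7,78),(7,79),(1,82),(1,83),(1,84),(0,85),
    (5,85),(1,86),(7,87),(1,88),(1,89),(7,90),(0,90),(7,91),(7,92),(1,94),(7,95),(0,95),(1,96),(1,97),(7,98),(7,99),
    (0,99),(7,100),(0,100),(0,101),(2,102),(3,103),(1,103),(1,104),(7,105),(1,105),(7,106),(5,106),(1,107),(7,108),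
    (5,108),(1,109),(1,110),(7,111),(0,111),(7,112),(5,112),(7,113),(5,113),(1,114),(7,115),(5,115),(5,116),(4,117),
    (7,118),(2,120),(5,120),(4,121),(1,121),(5,122),(1,124),(7,125),(7,126),(0,126),(0,127),(2,128),(2,129),(5,129),
    (4,130),(1,130),(5,131),(1,133),(7,134),(1,135),(2,136),(5,136),(7,137),(1,138),(7,139),(5,140),(1,141),(4,142),
    (7,143),(0,143),(2,144),(5,146),(1,147),(7,149),(0,149),(1,152),(7,153),(0,153),(0,155),(0,160),(5,160),(0,161),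
    (5,161),(0,162),(5,162),(2,163),(5,163),(4,164),(7,165),(0,165),(7,167),(0,167),(7,168),(0,168),(0,169),(2,170),
    (7,173),(0,174),(2,175),(7,176),(7,177),(0,179),(2,180),(0,181),(2,182),(2,183),(7,184),(1,185),(7,186),(0,186),
    (7,187),(5,187),(1,188),(7,189),(5,189),(5,190),(4,191),(7,192),(0,192),(5,193),(4,194),(7,195),(0,195),(7,196),
    (0,196),(4,197),(0,197),(2,198),(5,199),(4,200),(5,201),(4,202),(0,203),(5,204),(4,205),(4,206),(7,207),(5,209),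
    (1,211),(7,212),(7,214),(4,215),(0,216),(2,217),(2,218),(7,219),(5,220),(1,222),(7,223),(7,225),(4,226),(2,247),
    (5,247),(4,248),(2,249),(5,249),(4,250),(2,251),(5,251),(4,252),(5,253),(4,254),(0,256),(2,257),(0,258),(2,259),
    (0,260),(2,261),(2,262),(7,263),(2,269),(7,270),(7,275),(0,275),(4,276),(0,276),(2,277),(5,278),(4,279),(0,280),
    (5,281),(4,282),(4,283),(7,284),(0,285),(2,286),(0,289),(2,290),(0,291),(2,292),(0,293),(2,294),(7,295),(4,296),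
    (7,297),(2,300),(5,319),(4,320),(1,320),(5,322),(4,323),(1,323),(5,325),(4,326),(4,328),(2,332),(7,333),(0,340),
    (2,341),(0,342),(2,343),(7,344),(4,345),(7,346),(2,347),(2,356),(7,357),(4,364),(1,364),(1,365),(7,366),(5,366),
    (4,367),(1,367),(1,368),(7,369),(5,369),(4,370),(2,375),(7,376),(1,385),(7,386),(5,386),(7,387),(5,387),(2,388),
    (4,388),(5,388),(4,389),(1,390),(5,391),(5,392),(5,393),(4,394),(7,398),(5,398),(4,399),(5,399),(4,400),(5,401),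
    (4,402),(5,403),(5,404),(4,405),(7,406),(5,407),(4,408),(4,409),(4,410),(7,411),(5,412),(4,413),(5,414),(4,415),
    (7,416),(4,419),(2,422),(4,423),(9,385),(6,436),(10,436),(6,438),(9,51),(9,5),(9,56),(6,441),(9,138),(2,441),(9,65),
    (2,443),(2,10),(11,10),(6,10),(12,10),(13,10),(2,11),(11,11),(6,11),(12,11),(13,11),(2,12),(11,12),(6,12),(12,12),
    (13,12),(2,13),(11,13),(6,13),(12,13),(13,13),(11,448),(6,448),(12,448),(13,448),(6,449),(12,450),(13,450),(11,453),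
    (6,453),(12,453),(13,453),(6,454),(12,455),(13,455),(11,458),(6,458),(12,458),(13,458),(6,459),(12,460),(13,460),
    (11,463),(6,463),(12,463),(13,463),(6,464),(12,465),(13,465),(6,468),(12,469),(13,469),(6,475),(12,476),(13,476),
    (6,482),(12,483),(13,483),(6,489),(12,490),(13,490)]
  root := [0,1,2,3,4,5,6,7,8,9,10,11,12,13,1,2,3,3,4,4,4,4,4,4,5,5,5,5,5,5,6,6,6,6,7,7,7,7,7,8,8,8,8,8,9,9,9,9,9,9,9,1,1,2,2,
    2,3,3,3,3,3,4,4,4,4,4,4,4,4,4,4,4,4,4,4,4,5,5,5,5,5,5,6,6,6,6,7,7,7,7,7,7,7,7,8,8,8,8,8,8,8,8,8,9,9,9,9,9,9,9,9,9,9,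
    9,9,9,9,9,1,1,2,2,2,2,2,2,3,3,3,3,3,3,3,3,3,4,4,4,4,4,4,4,4,4,4,4,4,4,4,4,4,4,4,4,4,4,4,5,5,5,6,6,6,6,6,7,7,7,7,7,7,
    7,7,8,8,8,8,8,8,8,8,8,8,8,8,9,9,9,9,9,9,9,9,9,9,9,9,9,9,9,9,9,9,9,9,9,9,9,1,2,2,2,2,2,2,2,3,3,3,3,3,3,3,3,3,3,3,4,4,
    4,4,4,4,4,4,4,4,4,4,4,4,4,4,4,4,4,4,6,6,6,6,6,6,6,6,6,7,7,7,7,7,7,7,7,8,8,8,8,8,8,8,8,8,8,8,9,9,9,9,9,9,9,9,9,9,9,9,
    9,9,9,9,9,9,9,9,9,9,9,9,9,9,9,9,9,9,2,2,2,2,2,3,3,3,3,3,3,3,3,3,6,6,6,6,6,6,6,6,6,6,6,7,7,7,7,7,7,7,7,8,8,9,9,9,9,9,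
    9,9,9,9,9,9,9,9,9,9,9,9,9,9,9,9,9,9,9,6,6,6,6,6,6,6,6,6,7,7,9,9,9,9,9,9,9,9,9,9,6,6,6,6,6,6,6,6,6,6,6,9,9,6,6,6,6,6,
    6,6,6,6,6,6,6,6,6,6,6,6,6,6,6,6,6,6,6,6,6,6,6,6,6,6,6,6,6,6,6,6,6,6,6,6,6,1,5,3,5,4,5,4,5,10,10,10,10,10,11,11,11,
    11,11,12,12,12,12,12,13,13,13,13,13,10,10,10,10,10,10,10,11,11,11,11,11,11,11,12,12,12,12,12,12,12,13,13,13,13,13,
    13,13,10,10,10,11,11,11,12,12,12,13,13,13]

/-- one step of the check of the forest -/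
def stepF (D : FD) (B : List (List ℕ)) (i : ℕ) : Bool :=
  let p := D.par.getD i (0, 0)
  let b := B.getD p.1 []
  Nat.blt p.1 D.Bw.length && Nat.blt p.2 (D.Rw.length + i) &&
    Cfsg.Agent.H942.LMat.beqL (mulC (mulC b (D.Fo.getD p.2 [])) b) (D.Fo.getD (D.Rw.length + i) []) &&
    Nat.beq (D.root.getD p.2 0) (D.root.getD (D.Rw.length + i) 0)

theorem chkF_eq (D : FD) : chkF D = (D.Bw.all okW && D.Rw.all okW &&
    ((D.Bw.map wordC).all fun b => Cfsg.Agent.H942.LMat.beqL (mulC b b) oneC) &&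
    (List.range D.Rw.length).all (fun i => Cfsg.Agent.H942.LMat.beqL (wordC (D.Rw.getD i [])) (D.Fo.getD i []) &&
      Nat.beq (D.root.getD i 0) i) &&
    (List.range (D.Fo.length - D.Rw.length)).all (stepF D (D.Bw.map wordC))) := rfl

theorem fo_len : fo.Fo.length - fo.Rw.length = 494 := by decide +kernel

theorem fo_0 : (fo.Bw.all okW && fo.Rw.all okW &&
    ((fo.Bw.map wordC).all fun b => Cfsg.Agent.H942.LMat.beqL (mulC b b) oneC) &&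
    (List.range fo.Rw.length).all (fun i => Cfsg.Agent.H942.LMat.beqL (wordC (fo.Rw.getD i [])) (fo.Fo.getD i []) &&
      Nat.beq (fo.root.getD i 0) i)) = true := by decide +kernel

theorem fo_1 : (List.range' 0 150).all (stepF fo (fo.Bw.map wordC)) = true := by decide +kernel

theorem fo_2 : (List.range' 150 130).all (stepF fo (fo.Bw.map wordC)) = true := by decide +kernel

theorem fo_3 : (List.range' 280 110).all (stepF fo (fo.Bw.map wordC)) = true := by decide +kernel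

theorem fo_4 : (List.range' 390 104).all (stepF fo (fo.Bw.map wordC)) = true := by decide +kernel

theorem fo_ok : chkF fo = true := by
  rw [chkF_eq, fo_0, Bool.true_and, fo_len, List.all_eq_true]
  intro i hi
  rw [List.mem_range] at hi
  by_cases h1 : i < 150
  · exact List.all_eq_true.1 fo_1 i (List.mem_range'_1.2 (by omega))
  by_cases h2 : i < 280
  · exact List.all_eq_true.1 fo_2 i (List.mem_range'_1.2 (by omega))
  by_cases h3 : i < 390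
  · exact List.all_eq_true.1 fo_3 i (List.mem_range'_1.2 (by omega))
  · exact List.all_eq_true.1 fo_4 i (List.mem_range'_1.2 (by omega))

/-- the positions of the squares of the representatives 5, ..., 9 -/
def sidx : List ℕ := [2,53,17,58,3]

theorem sq_ok : ((List.range 5).all fun i => Cfsg.Agent.H942.LMat.beqL
    (mulC (fo.Fo.getD (i + 5) []) (fo.Fo.getD (i + 5) [])) (fo.Fo.getD (sidx.getD i 0) [])) = true := by decide +kernel

end Cfsg.Agent.H942.S62
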